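import Groth.Agent.NodeBr.Meet
import Groth.Agent.DualGeneric.SubL
import Groth.Agent.DualGeneric.FiniteCount
import Groth.Agent.DualGeneric.DivDeg

/-!
The number of meeting points of a subcurve of a nodal curve.
-/

set_option autoImplicit false
set_option backward.isDefEq.respectTransparency false
set_option backward.isDefEq.respectTransparency.types false
set_option linter.style.haveILetI false
set_option maxHeartbeats 1000000

universe u

open CategoryTheory CategoryTheory.Limits AlgebraicGeometry TopologicalSpace

attribute [local instance] HasDerivedCategory.standard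

noncomputable section

namespace Groth.Agent.NodeBr

open Groth.Agent.DualGeneric

variable (k : Type u) [Field k] {X : Scheme.{u}} [X.Over (Spec (CommRingCat.of k))]
  [IsProper (X ↘ Spec (CommRingCat.of k))]

/-- a reduced closed subscheme is cut out by the ideal of its support -/
theorem eq_vanishingIdeal_support (J : X.IdealSheafData) [AlgebraicGeometry.IsReduced J.subscheme] :
    J = Scheme.IdealSheafData.vanishingIdeal J.support := by
  haveI : QuasiCompact J.subschemeι := inferInstance
  conv_lhs => rw [← J.ker_subschemeι, Sub.ker_eq_vI J.subschemeι]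
  exact congrArg Sub.vI (Closeds.ext (by
    show closure _ = _
    rw [J.range_subschemeι, J.support.isClosed.closure_eq]))

include k in
/-- a connected one-dimensional closed set is the closure of its part off a finite closed set -/
theorem subset_closure_diff (J : X.IdealSheafData) [ConnectedSpace J.subscheme]
    (hJ : topologicalKrullDim J.subscheme = 1) {T : Set X} (hT : IsClosed T)
    (hfin : ((J.support : Set X) ∩ T).Finite) :
    (J.support : Set X) ⊆ closure ((J.support : Set X) \ T) := by
  intro x hx
  obtain ⟨y, rfl⟩ := J.range_subschemeι.ge hx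
  letI : J.subscheme.Over (Spec (CommRingCat.of k)) := ⟨J.subschemeι ≫ (X ↘ Spec (CommRingCat.of k))⟩
  haveI : IsProper (J.subscheme ↘ Spec (CommRingCat.of k)) :=
    inferInstanceAs (IsProper (J.subschemeι ≫ (X ↘ Spec (CommRingCat.of k))))
  haveI : JacobsonSpace J.subscheme := LocallyOfFiniteType.jacobsonSpace (J.subscheme ↘ Spec (CommRingCat.of k))
  let C := irreducibleComponent y
  have hC : C ∈ irreducibleComponents (J.subscheme : Type u) := irreducibleComponent_mem_irreducibleComponents y
  have h1 := dim_component_eq_one k hJ C hC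
  obtain ⟨η, hη⟩ := QuasiSober.sober hC.1 (isClosed_of_mem_irreducibleComponents C hC)
  have hFfin : (J.subschemeι ⁻¹' T).Finite := by
    refine Set.Finite.of_finite_image (hfin.subset ?_) J.subschemeι.isClosedEmbedding.injective.injOn
    rintro _ ⟨z, hz, rfl⟩
    exact ⟨J.range_subschemeι.le ⟨z, rfl⟩, hz⟩
  have hηT : J.subschemeι η ∉ T := fun h => by
    have hcl := Intersect.isClosed_singleton_of_finite (hT.preimage J.subschemeι.continuous) hFfin h
    have hCe : C = {η} := hη.def.symm.trans hcl.closure_eq
    haveI : Subsingleton C := by rw [hCe]; infer_instance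
    have := topologicalKrullDim_zero_of_discreteTopology C
    rw [h1] at this
    exact absurd this (by norm_num)
  have hmem : J.subschemeι η ∈ (J.support : Set X) \ T := ⟨J.range_subschemeι.le ⟨η, rfl⟩, hηT⟩
  exact closure_mono (Set.singleton_subset_iff.2 hmem)
    (specializes_iff_mem_closure.1 ((hη.specializes mem_irreducibleComponent).map J.subschemeι.continuous))

variable [IsAlgClosed k] [AlgebraicGeometry.IsReduced X]

/-- the functions on the meeting scheme count the meeting points -/
theorem h0_meet_eq_ncard (hX : Curv2.AtWorstNodal k X) (J : X.IdealSheafData) [AlgebraicGeometry.IsReduced J.subscheme]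
    [ConnectedSpace J.subscheme] (hJ : topologicalKrullDim J.subscheme = 1)
    (hfin : ((J.support : Set X) ∩ closure (J.support : Set X)ᶜ).Finite) :
    CurveRR.h k (ClSub.quotMod
        (J ⊔ Scheme.IdealSheafData.vanishingIdeal ⟨closure ((J.support : Set X)ᶜ), isClosed_closure⟩)) 0 =
      ((J.support : Set X) ∩ closure (J.support : Set X)ᶜ).ncard := by
  conv_lhs => rw [eq_vanishingIdeal_support J]
  rw [Scheme.IdealSheafData.coe_support_vanishingIdeal,
    sup_vanishingIdeal_eq k hX J.support ⟨closure (J.support : Set X)ᶜ, isClosed_closure⟩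
      (Set.eq_univ_of_forall fun x => (em (x ∈ (J.support : Set X))).imp id fun h => subset_closure h)
      (subset_closure_diff k J hJ isClosed_closure hfin)
      (closure_mono fun x hx => ⟨subset_closure hx, hx⟩)
      (fun P hP => by
        haveI : JacobsonSpace X := LocallyOfFiniteType.jacobsonSpace (X ↘ Spec (CommRingCat.of k))
        exact Intersect.isClosed_singleton_of_finite (J.support.isClosed.inter isClosed_closure) hfin hP),
    ← Nat.card_coe_set_eq]
  exact h0_quotMod_finite k (J.support.isClosed.inter isClosed_closure) hfin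

variable [DCoh.HasRpush (X ↘ Spec (CommRingCat.of k))]
  (h : DCoh.RpushPreservesQCoh (X ↘ Spec (CommRingCat.of k))) [DCoh.HasShriek (X ↘ Spec (CommRingCat.of k)) h]
  (OY : DCoh.DQCoh (Spec (CommRingCat.of k)))
  (hOY : Nonempty (OY.obj ≅ DCoh.inD (Spec (CommRingCat.of k)) (Coh.structureModule (Spec (CommRingCat.of k)))))

local notation "ω" => DCoh.dualizingMod (X ↘ Spec (CommRingCat.of k)) h OY 1

include hOY in
/-- `deg ω|_J = -2χ(O_J) + #(J ∩ closure Jᶜ)` for a connected subcurve of a nodal curve -/
theorem deg_omega_subcurve [ConnectedSpace X] (hdim : topologicalKrullDim X = 1) (hX : Curv2.AtWorstNodal k X)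
    (hω : PicF.IsInvertible ω) (J : X.IdealSheafData) [AlgebraicGeometry.IsReduced J.subscheme]
    [ConnectedSpace J.subscheme] (hJ : topologicalKrullDim J.subscheme = 1) :
    @Curv2.deg k _ J.subscheme ⟨J.subschemeι ≫ (X ↘ (Spec (CommRingCat.of k)))⟩
        ((Scheme.Modules.pullback J.subschemeι).obj ω) 1 =
      2 * (CurveRR.h k (ClSub.quotMod J) 1 : ℤ) - 2 * (CurveRR.h k (ClSub.quotMod J) 0 : ℤ) +
        (((J.support : Set X) ∩ closure (J.support : Set X)ᶜ).ncard : ℤ) ∧
    ((J.support : Set X) ∩ closure (J.support : Set X)ᶜ).Finite := by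
  obtain ⟨he, -, -, -, hW, -⟩ := Sub.facts k h OY hOY hω hdim J hJ
  rw [Scheme.IdealSheafData.support_sup, Closeds.coe_inf, Scheme.IdealSheafData.coe_support_vanishingIdeal] at hW
  have hfin : ((J.support : Set X) ∩ closure (J.support : Set X)ᶜ).Finite :=
    CurveRR.finite_of_dim_le_zero (k := k) (J.support.isClosed.inter isClosed_closure) hW
  refine ⟨?_, hfin⟩
  rw [he, h0_meet_eq_ncard k hX J hJ hfin]

end Groth.Agent.NodeBr

namespace Groth.Agent.NodeBr

open Groth.Agent.DualGeneric

variable (k : Type u) [Field k] {X : Scheme.{u}} [X.Over (Spec (CommRingCat.of k))]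
  [IsProper (X ↘ Spec (CommRingCat.of k))]

/-- cohomology of a reduced closed subscheme -/
theorem h_quotMod_eq (J : X.IdealSheafData) [AlgebraicGeometry.IsReduced J.subscheme] (i : ℕ) :
    CurveRR.h k (ClSub.quotMod J) i = @CurveRR.h k _ J.subscheme
      ⟨J.subschemeι ≫ (X ↘ Spec (CommRingCat.of k))⟩ (Coh.structureModule J.subscheme) i := by
  have := eq_vanishingIdeal_support J
  generalize J.support = D at this
  subst this
  exact Sub.hh_push_facts k D _ (Groth.Agent.QC.isQCoh_unit _) i

end Groth.Agent.NodeBr
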