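import Groth.Prelude.Def_DualGr
import Groth.Agent.NodeBr.Count
import Groth.Agent.InfLift.SchemeSmallExt

/-!
Points lying on two components of a curve.
-/

set_option autoImplicit false
set_option backward.isDefEq.respectTransparency false
set_option backward.isDefEq.respectTransparency.types false
set_option linter.style.haveILetI false

universe u

open CategoryTheory AlgebraicGeometry TopologicalSpace

noncomputable section

namespace Groth.Agent.NodeBr

variable {X : Scheme.{u}}

/-- a point with a domain as local ring lies on one component -/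
theorem component_eq_of_isDomain {x : X} [IsDomain (X.presheaf.stalk x)] {C C' : Set X}
    (hC : C ∈ irreducibleComponents (X : Type u)) (hC' : C' ∈ irreducibleComponents (X : Type u))
    (hx : x ∈ C) (hx' : x ∈ C') : C = C' := by
  let ξ := X.fromSpecStalk x ⟨⊥, Ideal.bot_prime⟩
  have key : ∀ C ∈ irreducibleComponents (X : Type u), x ∈ C → C = closure {ξ} := fun C hC hx => by
    have hη := hC.1.isGenericPoint_genericPoint (isClosed_of_mem_irreducibleComponents C hC)
    obtain ⟨p, hp⟩ : hC.1.genericPoint ∈ Set.range (X.fromSpecStalk x) := by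
      rw [Scheme.range_fromSpecStalk]; exact hη.specializes hx
    have h : ξ ⤳ hC.1.genericPoint := hp ▸
      Specializes.map ((PrimeSpectrum.le_iff_specializes ⟨⊥, Ideal.bot_prime⟩ p).1 bot_le) (X.fromSpecStalk x).continuous
    have hsub : C ⊆ closure {ξ} := by
      rw [← hη.def]; exact closure_minimal (Set.singleton_subset_iff.2 (specializes_iff_mem_closure.1 h)) isClosed_closure
    exact le_antisymm hsub (hC.2 isIrreducible_singleton.closure hsub)
  rw [key C hC hx, key C' hC' hx']

/-- the meeting set of a component consists of its points on other components -/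
theorem inter_closure_compl [NoetherianSpace X] {C : Set X} (hC : C ∈ irreducibleComponents (X : Type u)) (x : X) :
    x ∈ C ∩ closure Cᶜ ↔ x ∈ C ∧ ∃ C' ∈ irreducibleComponents (X : Type u), C' ≠ C ∧ x ∈ C' := by
  constructor
  · rintro ⟨hx, hx'⟩
    refine ⟨hx, ?_⟩
    have hfin : {C' ∈ irreducibleComponents (X : Type u) | C' ≠ C}.Finite :=
      (NoetherianSpace.finite_irreducibleComponents (α := X)).subset fun _ h => h.1
    have hcl : IsClosed (⋃₀ {C' ∈ irreducibleComponents (X : Type u) | C' ≠ C}) := by
      rw [Set.sUnion_eq_biUnion]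
      exact hfin.isClosed_biUnion fun C' h => isClosed_of_mem_irreducibleComponents C' h.1
    obtain ⟨C', ⟨h1, h2⟩, h3⟩ := closure_minimal (fun y hy => by
      obtain ⟨C', hC', hy'⟩ := exists_mem_irreducibleComponents_subset_of_isIrreducible _
        (isIrreducible_singleton (x := y))
      exact Set.mem_sUnion.2 ⟨C', ⟨hC', fun e => hy (e ▸ hy' rfl)⟩, hy' rfl⟩) hcl hx'
    exact ⟨C', h1, h2, h3⟩
  · rintro ⟨hx, C', hC', hne, hx'⟩
    refine ⟨hx, ?_⟩
    have hη := hC'.1.isGenericPoint_genericPoint (isClosed_of_mem_irreducibleComponents C' hC')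
    have hn : hC'.1.genericPoint ∉ C := fun h => hne (le_antisymm (by
      rw [← hη.def]; exact closure_minimal (Set.singleton_subset_iff.2 h) (isClosed_of_mem_irreducibleComponents C hC))
      (hC'.2 hC.1 (by rw [← hη.def]; exact closure_minimal (Set.singleton_subset_iff.2 h) (isClosed_of_mem_irreducibleComponents C hC))))
    exact closure_mono (Set.singleton_subset_iff.2 hn) (hη.def.symm ▸ hx')

/-- a point on two components is not smooth -/
theorem mem_nonsmoothPts_of_two (k : Type u) [Field k] [X.Over (Spec (CommRingCat.of k))]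
    [LocallyOfFiniteType (X ↘ Spec (CommRingCat.of k))] {x : X} {C C' : Set X}
    (hC : C ∈ irreducibleComponents (X : Type u)) (hC' : C' ∈ irreducibleComponents (X : Type u))
    (hne : C' ≠ C) (hx : x ∈ C) (hx' : x ∈ C') : x ∈ DualGr.nonsmoothPts (X ↘ Spec (CommRingCat.of k)) := by
  intro hs
  haveI : LocallyOfFinitePresentation (X ↘ Spec (CommRingCat.of k)) := Groth.Agent.InfLift.lfp_of_lft _
  let g := X ↘ Spec (CommRingCat.of k)
  let U : X.Opens := g.smoothLocus
  have hxU : x ∈ U := hs
  haveI : Smooth (U.ι ≫ g) := by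
    rw [← Scheme.Hom.smoothLocus_eq_top_iff, ← Scheme.Hom.preimage_smoothLocus_eq]
    exact U.ι_preimage_self
  haveI := SmLocalST.isRegularLocalRing_stalk_of_smooth_field (U.ι ≫ g) ⟨x, hxU⟩
  haveI := RegLoc.isDomain (A := U.toScheme.presheaf.stalk ⟨x, hxU⟩)
  haveI : IsDomain (X.presheaf.stalk x) :=
    (asIso (U.ι.stalkMap ⟨x, hxU⟩)).commRingCatIsoToRingEquiv.toMulEquiv.isDomain _
  exact hne (component_eq_of_isDomain hC' hC hx' hx)

end Groth.Agent.NodeBr
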