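import Groth.Agent.NodeBr.Meet
import Groth.Agent.NodeBr.Comp
import Groth.Agent.AmpleDimOne.Top

/-!
A node lies on at most two components and is not a regular point.
-/

set_option autoImplicit false
set_option backward.isDefEq.respectTransparency false
set_option backward.isDefEq.respectTransparency.types false
set_option linter.style.haveILetI false
set_option maxHeartbeats 1000000

universe u

open CategoryTheory AlgebraicGeometry MvPowerSeries IsLocalRing

noncomputable section

namespace Groth.Agent.NodeBr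

variable {K : Type u} [Field K]

/-- three pairwise orthogonal elements of a node ring: one vanishes -/
theorem not_three (a : Fin 3 → N K) (h0 : ∀ i, a i ≠ 0) (hprod : ∀ i j, i ≠ j → a i * a j = 0) : False := by
  classical
  choose F hF using fun i => Ideal.Quotient.mk_surjective (a i)
  have hdiv : ∀ (i j : Fin 3), i ≠ j → ∀ s : Fin 2, (X s : MvPowerSeries (Fin 2) K) ∣ F i ∨ (X s : MvPowerSeries (Fin 2) K) ∣ F j := by
    intro i j hij s
    have h1 : (X 0 * X 1 : MvPowerSeries (Fin 2) K) ∣ F i * F j := by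
      rw [← Ideal.mem_span_singleton, ← Ideal.Quotient.eq_zero_iff_mem, map_mul, hF, hF]
      exact hprod i j hij
    refine X_dvd_or_dvd s _ _ (dvd_trans ?_ h1)
    fin_cases s <;> simp
  have hnot : ∀ i, ¬ ((X 0 : MvPowerSeries (Fin 2) K) ∣ F i ∧ (X 1 : MvPowerSeries (Fin 2) K) ∣ F i) := by
    rintro i ⟨⟨G, hG⟩, h1⟩
    apply h0 i
    rw [← hF i, Ideal.Quotient.eq_zero_iff_mem, Ideal.mem_span_singleton, hG]
    rw [hG] at h1
    rcases X_dvd_or_dvd 1 _ _ h1 with h | h
    · rw [X_dvd_iff] at h
      have := h (Finsupp.single 0 1) (by simp)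
      rw [coeff_index_single_self_X] at this
      exact absurd this one_ne_zero
    · exact mul_dvd_mul_left _ h
  have h01 := hdiv 0 1 (by decide)
  have h02 := hdiv 0 2 (by decide)
  have h12 := hdiv 1 2 (by decide)
  have a0 := h01 0; have a1 := h01 1
  have b0 := h02 0; have b1 := h02 1
  have c0 := h12 0; have c1 := h12 1
  have n0 := hnot 0; have n1 := hnot 1; have n2 := hnot 2
  tauto

/-- the maximal ideal of a node ring is not principal -/
theorem not_principal (z : N K) (hz : ¬ IsUnit z) (h : ∀ i : Fin 2, z ∣ Ideal.Quotient.mk _ (X i)) : False := by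
  classical
  obtain ⟨Z, rfl⟩ := Ideal.Quotient.mk_surjective z
  have hZ : constantCoeff Z = 0 := by
    by_contra h0
    exact hz ((MvPowerSeries.isUnit_iff_constantCoeff.2 (isUnit_iff_ne_zero.2 h0)).map _)
  have key : ∀ i : Fin 2, ∃ c : K, ∀ j : Fin 2,
      coeff (Finsupp.single j 1) (X i : MvPowerSeries (Fin 2) K) = c * coeff (Finsupp.single j 1) Z := fun i => by
    obtain ⟨q, hq⟩ := h i
    obtain ⟨Q, rfl⟩ := Ideal.Quotient.mk_surjective q
    rw [← map_mul, Ideal.Quotient.eq, Ideal.mem_span_singleton'] at hq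
    obtain ⟨R, hR⟩ := hq
    refine ⟨constantCoeff Q, fun j => ?_⟩
    have hmul : ∀ f g : MvPowerSeries (Fin 2) K, coeff (Finsupp.single j 1) (f * g) =
        constantCoeff f * coeff (Finsupp.single j 1) g + coeff (Finsupp.single j 1) f * constantCoeff g := fun f g => by
      rw [coeff_mul, Finsupp.antidiagonal_single, Finset.sum_map]
      have h1 : Finset.HasAntidiagonal.antidiagonal 1 = ({(0, 1), (1, 0)} : Finset (ℕ × ℕ)) := by decide
      rw [h1, Finset.sum_pair (by decide)]
      simp [MvPowerSeries.coeff_zero_eq_constantCoeff]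
    have h0 := congrArg (coeff (Finsupp.single j 1)) hR
    simp only [hmul, map_sub, map_mul, constantCoeff_X, hZ] at h0
    linear_combination -h0
  obtain ⟨c, hc⟩ := key 0
  obtain ⟨d, hd⟩ := key 1
  have c0 := hc 0
  have c1 := hc 1
  have d1 := hd 1
  rw [coeff_index_single_X] at c0 c1 d1
  simp at c0 c1 d1
  rcases c1 with h | h
  · rw [h, zero_mul] at c0; exact one_ne_zero c0
  · rw [h, mul_zero] at d1; exact one_ne_zero d1

variable (k : Type u) [Field k] [IsAlgClosed k] {X : Scheme.{u}} [X.Over (Spec (CommRingCat.of k))]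
  [LocallyOfFiniteType (X ↘ Spec (CommRingCat.of k))]

/-- a node of a curve is not a regular point -/
theorem not_isRegularLocalRing_of_isNode (hdim : topologicalKrullDim X ≤ 1) {x : X} (h : Curv2.IsNode k X x)
    [hreg : IsRegularLocalRing (X.presheaf.stalk x)] : False := by
  obtain ⟨B, _, _, _, σ, ⟨e⟩⟩ := exists_model_of_isNode k h
  haveI : IsRegularLocalRing B := IsRegularLocalRing.of_ringEquiv σ
  have hd : ringKrullDim B ≤ 1 :=
    (ringKrullDim_eq_of_ringEquiv σ.symm).trans_le (AmpleDimOne.ringKrullDim_stalk_le hdim x)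
  have hsp : (maximalIdeal B).spanFinrank ≤ 1 := by
    have := (IsRegularLocalRing.spanFinrank_maximalIdeal (R := B)).trans_le hd
    exact_mod_cast this
  obtain ⟨z, hz⟩ : ∃ z : B, maximalIdeal B = Ideal.span {z} := by
    have hfg : (maximalIdeal B).FG := IsNoetherian.noetherian _
    have hs := Submodule.FG.generators_ncard hfg
    have hfin := Submodule.FG.finite_generators hfg
    rcases Set.ncard_le_one_iff_eq hfin |>.1 (hs.trans_le hsp) with he | ⟨z, he⟩
    · refine ⟨0, ?_⟩
      rw [← Submodule.span_generators (maximalIdeal B), he]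
      simp
    · exact ⟨z, by rw [← Submodule.span_generators (maximalIdeal B), he]⟩
  let C := AdicCompletion (maximalIdeal B) B
  let π := e.toRingHom.comp (algebraMap B C)
  refine not_principal (π z) (fun hu => ?_) fun i => ?_
  · have h1 : IsUnit (algebraMap B C z) := (isUnit_map_iff e _).1 hu
    exact (hz ▸ Ideal.mem_span_singleton_self z : z ∈ maximalIdeal B) (isUnit_of_map_unit (algebraMap B C) _ h1)
  · have hm : e.symm (Ideal.Quotient.mk _ (MvPowerSeries.X i)) ∈ maximalIdeal C := by
      rw [mem_maximalIdeal, mem_nonunits_iff]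
      intro hu
      have h1 := hu.map e
      rw [e.apply_symm_apply] at h1
      haveI : IsLocalRing (N (AlgebraicClosure k)) := e.isLocalRing
      haveI : IsLocalHom (Ideal.Quotient.mk (Ideal.span {(MvPowerSeries.X 0 * MvPowerSeries.X 1 :
          MvPowerSeries (Fin 2) (AlgebraicClosure k))})) :=
        IsLocalHom.of_surjective _ Ideal.Quotient.mk_surjective
      have h2 := isUnit_of_map_unit _ _ h1
      rw [MvPowerSeries.isUnit_iff_constantCoeff, MvPowerSeries.constantCoeff_X] at h2
      exact not_isUnit_zero h2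
    rw [AdicCompletion.maximalIdeal_eq_map] at hm
    have hm' := Ideal.map_mono (f := algebraMap B C) hz.le hm
    rw [Ideal.map_span, Set.image_singleton, Ideal.mem_span_singleton'] at hm'
    obtain ⟨q, hq⟩ := hm'
    exact ⟨e q, by
      show _ = e (algebraMap B C z) * e q
      refine (((e.apply_symm_apply _).symm.trans (congrArg e hq.symm)).trans ?_).trans (map_mul e _ _)
      rw [mul_comm q]⟩

/-- a node is not in the smooth locus -/
theorem not_smooth_of_isNode (hdim : topologicalKrullDim X ≤ 1) {x : X} (h : Curv2.IsNode k X x) (U : X.Opens)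
    (hx : x ∈ U) [Smooth (U.ι ≫ (X ↘ Spec (CommRingCat.of k)))] : False := by
  haveI := SmLocalST.isRegularLocalRing_stalk_of_smooth_field (U.ι ≫ (X ↘ Spec (CommRingCat.of k))) ⟨x, hx⟩
  haveI : IsRegularLocalRing (X.presheaf.stalk x) :=
    IsRegularLocalRing.of_ringEquiv (asIso (U.ι.stalkMap ⟨x, hx⟩)).commRingCatIsoToRingEquiv.symm
  exact not_isRegularLocalRing_of_isNode k hdim h

/-- a closed point of a nodal curve lies on at most two components -/
theorem not_three_components [AlgebraicGeometry.IsReduced X] (hX : Curv2.AtWorstNodal k X) {x : X}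
    (hcl : IsClosed ({x} : Set X)) (C : Fin 3 → Set X) (hC : ∀ i, C i ∈ irreducibleComponents (X : Type u))
    (hinj : Function.Injective C) (hx : ∀ i, x ∈ C i) : False := by
  classical
  haveI : IsLocallyNoetherian X := LocallyOfFiniteType.isLocallyNoetherian (X ↘ Spec (CommRingCat.of k))
  rcases hX x hcl with ⟨U, hxU, hU⟩ | hn
  · haveI := hU
    haveI := SmLocalST.isRegularLocalRing_stalk_of_smooth_field (U.ι ≫ (X ↘ Spec (CommRingCat.of k))) ⟨x, hxU⟩
    haveI := RegLoc.isDomain (A := U.toScheme.presheaf.stalk ⟨x, hxU⟩)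
    haveI : IsDomain (X.presheaf.stalk x) :=
      (asIso (U.ι.stalkMap ⟨x, hxU⟩)).commRingCatIsoToRingEquiv.toMulEquiv.isDomain _
    exact absurd (hinj (component_eq_of_isDomain (hC 0) (hC 1) (hx 0) (hx 1))) (by decide)
  let A := X.presheaf.stalk x
  -- the generic points as minimal primes of the stalk
  have hgen : ∀ i, ∃ p : PrimeSpectrum A, X.fromSpecStalk x p = (hC i).1.genericPoint ∧ p.asIdeal ∈ minimalPrimes A := by
    intro i
    have hη := (hC i).1.isGenericPoint_genericPoint (isClosed_of_mem_irreducibleComponents _ (hC i))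
    obtain ⟨p, hp⟩ : (hC i).1.genericPoint ∈ Set.range (X.fromSpecStalk x) := by
      rw [Scheme.range_fromSpecStalk]; exact hη.specializes (hx i)
    refine ⟨p, hp, ?_⟩
    obtain ⟨q, hq, hqp⟩ := Ideal.exists_minimalPrimes_le (bot_le : (⊥ : Ideal A) ≤ p.asIdeal)
    let q' : PrimeSpectrum A := ⟨q, hq.1.1⟩
    have hsp : X.fromSpecStalk x q' ⤳ X.fromSpecStalk x p :=
      Specializes.map ((PrimeSpectrum.le_iff_specializes q' p).1 hqp) (X.fromSpecStalk x).continuous
    have hsub : C i ⊆ closure {X.fromSpecStalk x q'} := by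
      rw [← hη.def, ← hp]
      exact closure_minimal (Set.singleton_subset_iff.2 (specializes_iff_mem_closure.1 hsp)) isClosed_closure
    have hrev := (hC i).2 isIrreducible_singleton.closure hsub
    have h2 : X.fromSpecStalk x p ⤳ X.fromSpecStalk x q' := by
      rw [hp]; exact hη.specializes (hrev (subset_closure rfl))
    rw [(X.fromSpecStalk x).isEmbedding.injective (h2.antisymm hsp).eq]
    exact hq
  choose p hp hmin using hgen
  have hne : ∀ i j, i ≠ j → (p i).asIdeal ≠ (p j).asIdeal := fun i j hij e => by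
    refine hij (hinj ?_)
    have hi := (hC i).1.isGenericPoint_genericPoint (isClosed_of_mem_irreducibleComponents _ (hC i))
    have hj := (hC j).1.isGenericPoint_genericPoint (isClosed_of_mem_irreducibleComponents _ (hC j))
    rw [← hi.def, ← hj.def, ← hp i, ← hp j, PrimeSpectrum.ext e]
  have hfin : (minimalPrimes A).Finite := minimalPrimes.finite_of_isNoetherianRing A
  have hel : ∀ i, ∃ a : A, a ∉ (p i).asIdeal ∧ ∀ q ∈ minimalPrimes A, q ≠ (p i).asIdeal → a ∈ q := by
    intro i
    have hsep : ∀ q ∈ hfin.toFinset.erase (p i).asIdeal, ∃ w ∈ q, w ∉ (p i).asIdeal := fun q hq => by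
      obtain ⟨hne', hq⟩ := Finset.mem_erase.1 hq
      exact SetLike.not_le_iff_exists.1 fun hle =>
        hne' (le_antisymm hle ((hmin i).2 (hfin.mem_toFinset.1 hq).1 hle))
    choose w hw hwp using hsep
    refine ⟨∏ q ∈ (hfin.toFinset.erase (p i).asIdeal).attach, w q.1 q.2, fun hmem => ?_, fun q hq hne' => ?_⟩
    · obtain ⟨q, -, hq⟩ := ((p i).isPrime.prod_mem_iff).1 hmem
      exact hwp q.1 q.2 hq
    · exact q.mem_of_dvd (Finset.dvd_prod_of_mem (fun q => w q.1 q.2)
        (Finset.mem_attach _ ⟨q, Finset.mem_erase.2 ⟨hne', hfin.mem_toFinset.2 hq⟩⟩)) (hw q _)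
  choose a hai haq using hel
  obtain ⟨B, _, _, _, σ, ⟨e⟩⟩ := exists_model_of_isNode k hn
  let ψ : A →+* N (AlgebraicClosure k) :=
    e.toRingHom.comp ((algebraMap B (AdicCompletion (maximalIdeal B) B)).comp σ.toRingHom)
  have hψ : Function.Injective ψ := e.injective.comp
    ((AdicCompletion.of_injective (maximalIdeal B) B).comp σ.injective)
  refine not_three (fun i => ψ (a i)) (fun i h => hai i ?_) fun i j hij => ?_
  · rw [hψ (h.trans (map_zero ψ).symm)]; exact zero_mem _
  · rw [← map_mul, ← map_zero ψ]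
    congr 1
    refine IsNilpotent.eq_zero (nilpotent_iff_mem_prime.2 fun J hJ => ?_)
    obtain ⟨q, hq, hqJ⟩ := Ideal.exists_minimalPrimes_le (bot_le : (⊥ : Ideal A) ≤ J)
    refine hqJ ?_
    by_cases h1 : q = (p i).asIdeal
    · exact q.mul_mem_left _ (haq j q hq (h1 ▸ hne i j hij))
    · exact q.mul_mem_right _ (haq i q hq h1)

end Groth.Agent.NodeBr
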