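import Groth.Prelude.Def_StCurv
import Groth.Agent.DualGeneric.SubM
import Groth.Agent.DualGeneric.GenusZero
import Groth.Agent.CurveRR.SmoothPt
import Groth.Agent.NodeBr.Comp
import Groth.Agent.S0023

/-!
Smooth rational components are the components of genus zero.
-/

set_option autoImplicit false
set_option backward.isDefEq.respectTransparency false
set_option backward.isDefEq.respectTransparency.types false
set_option linter.style.haveILetI false
set_option maxHeartbeats 1000000

universe u

open CategoryTheory CategoryTheory.Limits AlgebraicGeometry TopologicalSpace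
open Groth.Agent.DualGeneric

attribute [local instance] HasDerivedCategory.standard

noncomputable section

namespace Groth.Agent.NodeBr

variable (k : Type u) [Field k] [IsAlgClosed k] {X : Scheme.{u}} [X.Over (Spec (CommRingCat.of k))]
  [IsProper (X ↘ Spec (CommRingCat.of k))]

/-- a component has only constant functions -/
theorem h0_component (C : Set X) (hC : C ∈ irreducibleComponents (X : Type u)) :
    CurveRR.h k (ClSub.quotMod (Sub.cI C hC)) 0 = 1 := by
  rw [Sub.h_cI]
  letI : (Sub.cI C hC).subscheme.Over (Spec (CommRingCat.of k)) := ⟨(Sub.cI C hC).subschemeι ≫ (X ↘ Spec (CommRingCat.of k))⟩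
  haveI : IsProper ((Sub.cI C hC).subscheme ↘ Spec (CommRingCat.of k)) :=
    inferInstanceAs (IsProper ((Sub.cI C hC).subschemeι ≫ (X ↘ Spec (CommRingCat.of k))))
  exact h0_structure_connected (k := k)

/-- smooth rational components are exactly those of genus zero -/
theorem isSmRatComp_iff [ConnectedSpace X] (hdim : topologicalKrullDim X = 1) (C : Set X)
    (hC : C ∈ irreducibleComponents (X : Type u)) :
    CurvSt.IsSmRatComp k X (X ↘ Spec (CommRingCat.of k)) C ↔ CurveRR.h k (ClSub.quotMod (Sub.cI C hC)) 1 = 0 := by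
  constructor
  · rintro ⟨-, e, he, hek, hr⟩
    haveI := he
    haveI := Horrocks.isIntegral_projSpace (k := k) (n := 1)
    have hker : e.ker = Sub.cI C hC := by
      rw [Sub.ker_eq_vI e]
      exact congrArg Sub.vI (Closeds.ext (by
        show closure (Set.range e.base) = C
        rw [hr, (isClosed_of_mem_irreducibleComponents C hC).closure_eq]))
    rw [← hker]
    haveI : IsIso e.toImage := inferInstance
    haveI := CurveRR.unitToPush_isIso e.toImage
    let ι : (Scheme.Modules.pushforward e.ker.subschemeι).obj (Coh.structureModule e.ker.subscheme) ≅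
        (Scheme.Modules.pushforward e).obj (Coh.structureModule (CohB1.ProjSpace 1 k)) :=
      (Scheme.Modules.pushforward e.imageι).mapIso (asIso (ClSub.unitToPush e.toImage)) ≪≫
        (Scheme.Modules.pushforwardComp e.toImage e.imageι).app _ ≪≫
        (Scheme.Modules.pushforwardCongr e.toImage_imageι).app _
    letI : (CohB1.ProjSpace 1 k).Over (Spec (CommRingCat.of k)) := ⟨CohB1.ProjSpace.toSpec 1 k⟩
    haveI : (Coh.structureModule (CohB1.ProjSpace 1 k)).IsQuasicoherent := Groth.Agent.QC.isQCoh_unit _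
    obtain ⟨el⟩ := CohFinite.hh_push_linear (A := k) e hek (Coh.structureModule (CohB1.ProjSpace 1 k))
      (CohQC.directAcyclic_of_isAffineHom _ _) 1
    refine (CurveRR.h_eq_of_iso (k := k) ι 1).trans ?_
    haveI := Groth.Agent.S0023.result 1 k 1 one_pos
    exact CurveRR.h_eq_zero el.symm.toEquiv.subsingleton
  · intro h1
    refine ⟨hC, ?_⟩
    letI : (Sub.cI C hC).subscheme.Over (Spec (CommRingCat.of k)) := ⟨(Sub.cI C hC).subschemeι ≫ (X ↘ Spec (CommRingCat.of k))⟩
    haveI : IsProper ((Sub.cI C hC).subscheme ↘ Spec (CommRingCat.of k)) :=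
      inferInstanceAs (IsProper ((Sub.cI C hC).subschemeι ≫ (X ↘ Spec (CommRingCat.of k))))
    haveI := CurveRR.isNoetherian_of_proper k (Sub.cI C hC).subscheme
    have hd := Sub.dim_cI k C hC hdim
    haveI : IrreducibleSpace (Sub.cI C hC).subscheme := by
      haveI : IrreducibleSpace (Set.range (Sub.cI C hC).subschemeι) := by
        rw [Sub.range_ι]
        exact Subtype.irreducibleSpace hC.1
      exact (Sub.cI C hC).subschemeι.isClosedEmbedding.isEmbedding.toHomeomorph.symm.surjective.irreducibleSpace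
        (Sub.cI C hC).subschemeι.isClosedEmbedding.isEmbedding.toHomeomorph.symm.continuous
    haveI : IsIntegral (Sub.cI C hC).subscheme := isIntegral_of_irreducibleSpace_of_isReduced _
    obtain ⟨P, hP, -, hreg⟩ := CurveRR.exists_closed_regular_mem (k := k) (⊤ : (Sub.cI C hC).subscheme.Opens) trivial
    obtain ⟨L, hL, hdeg, -⟩ := CurveRR.exists_point_inverse (k := k) hP
      (CurveRR.isInvertible_pointIdeal hd.le hP (CurveRR.genericPoint_ne_of_closed (k := k) hd hP) hreg)
    have hg : Curv2.genus k (Sub.cI C hC).subscheme = 0 := (Sub.h_cI k C hC 1).symm.trans h1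
    obtain ⟨e, he⟩ := exists_iso_of_deg_one k hd hg hL hdeg
    refine ⟨e.inv ≫ (Sub.cI C hC).subschemeι, inferInstance, ?_, ?_⟩
    · rw [Category.assoc, Iso.inv_comp_eq]
      exact he.symm
    · rw [Scheme.Hom.comp_base, TopCat.coe_comp, Set.range_comp,
        show Set.range e.inv = Set.univ from (Scheme.homeoOfIso e.symm).surjective.range_eq, Set.image_univ]
      exact Sub.range_ι _

omit [IsAlgClosed k] in
include k in
/-- a component meets the others in finitely many points -/
theorem meet_finite (hdim : topologicalKrullDim X ≤ 1) (C : Set X) (hC : C ∈ irreducibleComponents (X : Type u)) :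
    (C ∩ closure Cᶜ).Finite := by
  haveI := CurveRR.isNoetherian_of_proper k X
  have hcl := (isClosed_of_mem_irreducibleComponents C hC).inter (isClosed_closure (s := Cᶜ))
  have hη := hC.1.isGenericPoint_genericPoint (isClosed_of_mem_irreducibleComponents C hC)
  refine CurveRR.finite_of_dim_le_zero (k := k) hcl (Sub.dim_le_zero_of_notMem (ξ := hC.1.genericPoint) hdim hcl
    (by rw [hη.def]; exact Set.inter_subset_left) fun hm => ?_)
  obtain ⟨-, C', hC', hne, hm'⟩ := (inter_closure_compl hC _).1 hm
  have hsub : C ⊆ C' := hη.def ▸ closure_minimal (Set.singleton_subset_iff.2 hm') (isClosed_of_mem_irreducibleComponents C' hC')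
  exact hne (le_antisymm (hC.2 hC'.1 hsub) hsub)

variable [AlgebraicGeometry.IsReduced X]

omit [IsAlgClosed k] in
include k in
/-- a component that meets no other is everything -/
theorem h_component_of_meet_empty [ConnectedSpace X] (C : Set X) (hC : C ∈ irreducibleComponents (X : Type u))
    (h0 : C ∩ closure Cᶜ = ∅) (i : ℕ) :
    CurveRR.h k (ClSub.quotMod (Sub.cI C hC)) i = CurveRR.h k (Coh.structureModule X) i := by
  refine Sub.h_cI_univ k C hC (Scheme.IdealSheafData.support_eq_top_iff.1 (Closeds.ext ?_)) i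
  rw [Scheme.IdealSheafData.coe_support_vanishingIdeal]
  have hcl : closure Cᶜ ⊆ Cᶜ := fun x hx hxC => (Set.eq_empty_iff_forall_notMem.1 h0) x ⟨hxC, hx⟩
  exact (isClopen_iff.1 ⟨isClosed_of_mem_irreducibleComponents C hC,
    isClosed_compl_iff.1 (closure_subset_iff_isClosed.1 hcl)⟩).resolve_left hC.1.nonempty.ne_empty

/-- rational tails in terms of the number of meeting points -/
theorem isRationalTail_iff [ConnectedSpace X] (hdim : topologicalKrullDim X = 1) (hX : Curv2.AtWorstNodal k X)
    (C : Set X) (hC : C ∈ irreducibleComponents (X : Type u)) (hfin : (C ∩ closure Cᶜ).Finite) :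
    (Curv2.IsRationalTail X C hC ↔ (CurveRR.h k (ClSub.quotMod (Sub.cI C hC)) 1 = 0 ∧ (C ∩ closure Cᶜ).ncard = 1)) ∧
    (Curv2.IsRationalBridge k X C hC ↔ (CurveRR.h k (ClSub.quotMod (Sub.cI C hC)) 1 = 0 ∧ (C ∩ closure Cᶜ).ncard = 2)) := by
  have hcoe : ((Sub.cI C hC).support : Set X) = C := Scheme.IdealSheafData.coe_support_vanishingIdeal _
  have hW : CurveRR.h k (ClSub.quotMod (Sub.cI C hC ⊔ Sub.cI' C hC)) 0 = (C ∩ closure Cᶜ).ncard := by
    rw [Sub.cI'_eq k C hC]
    have := h0_meet_eq_ncard k hX (Sub.cI C hC) (Sub.dim_cI k C hC hdim) (by rw [hcoe]; exact hfin)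
    rwa [hcoe] at this
  have h0 := h0_component k C hC
  have hsupp : ((Sub.cI C hC ⊔ Sub.cI' C hC).support : Set X) = C ∩ closure Cᶜ := by
    rw [Sub.cI'_eq k C hC, Scheme.IdealSheafData.support_sup]
    simp only [Closeds.coe_inf, Scheme.IdealSheafData.coe_support_vanishingIdeal]
    rfl
  have hdim0 : topologicalKrullDim ((Sub.cI C hC ⊔ Sub.cI' C hC).support : Set X) ≤ 0 := by
    rw [hsupp]
    haveI : JacobsonSpace X := LocallyOfFiniteType.jacobsonSpace (X ↘ Spec (CommRingCat.of k))
    haveI : Finite (C ∩ closure Cᶜ : Set X) := hfin.to_subtype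
    haveI : T1Space (C ∩ closure Cᶜ : Set X) := t1Space_iff_exists_open.2 fun a b hab =>
      ⟨Subtype.val ⁻¹' ({b.1}ᶜ : Set X), (Intersect.isClosed_singleton_of_finite
        ((isClosed_of_mem_irreducibleComponents C hC).inter isClosed_closure) hfin b.2).isOpen_compl.preimage continuous_subtype_val,
        fun h => hab (Subtype.ext h), fun h => h rfl⟩
    exact topologicalKrullDim_zero_of_discreteTopology _
  constructor
  · constructor
    · intro hT
      obtain ⟨-, -, -, -, -, h1⟩ := id hT
      refine ⟨(Sub.subsingleton_h1_cI_iff k C hC).1 h1, ?_⟩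
      rw [← hW, Sub.h0_tail k C hC hT, h0]
    · rintro ⟨h1, hn⟩
      exact Sub.isRationalTail_of k C hC hdim0 h1 (by rw [hW, h0, hn])
  · show (_ ∧ CurveRR.h k (ClSub.quotMod (Sub.cI C hC ⊔ Sub.cI' C hC)) 0 = 2 * CurveRR.h k (ClSub.quotMod (Sub.cI C hC)) 0 ∧ _) ↔ _
    rw [hW, h0]
    constructor
    · rintro ⟨-, h2, h1⟩
      exact ⟨(Sub.subsingleton_h1_cI_iff k C hC).1 h1, by omega⟩
    · rintro ⟨h1, hn⟩
      refine ⟨?_, by omega, (Sub.subsingleton_h1_cI_iff k C hC).2 h1⟩
      obtain ⟨x, hx⟩ := (Set.ncard_pos hfin).1 (by omega : 0 < (C ∩ closure Cᶜ).ncard)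
      have hx' : x ∈ ((Sub.cI C hC ⊔ Sub.cI' C hC).support : Set X) := hsupp.symm ▸ hx
      rw [Scheme.IdealSheafData.support_sup] at hx'
      exact ⟨x, hx'.2⟩

end Groth.Agent.NodeBr
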