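import Groth.Agent.NodeBr.Branch
import Groth.Agent.NodeBr.Rat
import Groth.Agent.DualGeneric.Marked
import Groth.Agent.SerrePn.Local
import Groth.Agent.CurveRR.Multi2
import Groth.Agent.DerPush.Basic

/-!
Counting nodes on a curve with smooth rational components.
-/

set_option autoImplicit false
set_option backward.isDefEq.respectTransparency false
set_option backward.isDefEq.respectTransparency.types false
set_option linter.style.haveILetI false
set_option maxHeartbeats 1000000

universe u

open CategoryTheory CategoryTheory.Limits AlgebraicGeometry TopologicalSpace Opposite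

attribute [local instance] HasDerivedCategory.standard

noncomputable section

namespace Groth.Agent.NodeBr

open Groth.Agent.DualGeneric

/-- near a point on a single component a surjection onto that component is an isomorphism on stalks -/
theorem stalkMap_bijective_of_nhds_subset_range {Y X : Scheme.{u}} [AlgebraicGeometry.IsReduced X] (e : Y ⟶ X)
    [IsClosedImmersion e] {O : X.Opens} {y : Y} (hy : e y ∈ O) (hO : (O : Set X) ⊆ Set.range e) :
    Function.Bijective (e.stalkMap y).hom := by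
  refine ⟨(injective_iff_map_eq_zero _).2 fun a ha => ?_, e.stalkMap_surjective y⟩
  obtain ⟨V, hxV, s, rfl⟩ := X.presheaf.germ_exist a
  have h0 : (e.stalkMap y).hom (X.presheaf.germ V (e y) hxV s) = Y.presheaf.germ (e ⁻¹ᵁ V) y hxV ((e.app V).hom s) :=
    Scheme.Hom.germ_stalkMap_apply e V y hxV s
  rw [h0] at ha
  obtain ⟨W', hyW', i₁, i₂, hW'⟩ := Y.presheaf.germ_eq (U := e ⁻¹ᵁ V) (V := e ⁻¹ᵁ V) y hxV hxV _ 0 (ha.trans (map_zero _).symm)
  obtain ⟨W₀, hW₀, hWe⟩ := e.isClosedEmbedding.isInducing.isOpen_iff.1 W'.isOpen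
  let W : X.Opens := V ⊓ (⟨W₀, hW₀⟩ ⊓ O)
  have hxW : e y ∈ W := ⟨hxV, (show y ∈ e ⁻¹' W₀ by rw [hWe]; exact hyW'), hy⟩
  have hs : (X.presheaf.map (homOfLE (inf_le_left : W ≤ V)).op).hom s = 0 := by
    refine eq_zero_of_basicOpen_eq_bot _ (Opens.ext (Set.eq_empty_of_forall_notMem fun z hz => ?_))
    rw [Scheme.basicOpen_res] at hz
    obtain ⟨⟨-, hz0, hzO⟩, hzs⟩ := hz
    obtain ⟨w, rfl⟩ := hO hzO
    have hw : w ∈ W' := by
      show w ∈ (W' : Set Y)
      rw [← hWe]; exact hz0
    have h1 : w ∈ Y.basicOpen ((e.app V).hom s) := by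
      rw [← Scheme.preimage_basicOpen]; exact hzs
    have h2 : w ∈ Y.basicOpen ((Y.presheaf.map i₁.op).hom ((e.app V).hom s)) := by
      rw [Scheme.basicOpen_res]; exact ⟨hw, h1⟩
    rw [show (Y.presheaf.map i₁.op).hom ((e.app V).hom s) = 0 from hW'.trans (map_zero _), Scheme.basicOpen_zero] at h2
    exact h2
  rw [← X.presheaf.germ_res_apply (homOfLE (inf_le_left : W ≤ V)) (e y) hxW s]
  exact (congrArg _ hs).trans (map_zero _)

variable (k : Type u) [Field k] [IsAlgClosed k] {X : Scheme.{u}} [X.Over (Spec (CommRingCat.of k))]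
  [IsProper (X ↘ Spec (CommRingCat.of k))] [AlgebraicGeometry.IsReduced X] [ConnectedSpace X]

omit [ConnectedSpace X] in
/-- on a smooth rational component a point away from the other components is regular -/
theorem isRegularLocalRing_of_single (C : Set X) (hC : CurvSt.IsSmRatComp k X (X ↘ Spec (CommRingCat.of k)) C)
    {x : X} (hx : x ∈ C) (hx' : x ∉ closure Cᶜ) : IsRegularLocalRing (X.presheaf.stalk x) := by
  obtain ⟨-, e, he, -, hr⟩ := hC
  haveI := he
  obtain ⟨y, rfl⟩ : x ∈ Set.range e := by rw [hr]; exact hx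
  haveI := SerrePn.isRegularLocalRing_stalk k 1 y
  have hb := stalkMap_bijective_of_nhds_subset_range e (O := ⟨(closure Cᶜ)ᶜ, isClosed_closure.isOpen_compl⟩) hx'
    (fun z hz => by rw [hr]; by_contra h; exact hz (subset_closure h))
  exact IsRegularLocalRing.of_ringEquiv (RingEquiv.ofBijective (e.stalkMap y).hom hb).symm

/-- the nodes of a curve with smooth rational components are the meeting points -/
theorem isNode_iff_mem_meet (hdim : topologicalKrullDim X = 1) (hX : Curv2.AtWorstNodal k X)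
    (hrat : ∀ E ∈ irreducibleComponents (X : Type u), CurvSt.IsSmRatComp k X (X ↘ Spec (CommRingCat.of k)) E) (x : X) :
    Curv2.IsNode k X x ↔ ∃ C ∈ irreducibleComponents (X : Type u), x ∈ C ∩ closure Cᶜ := by
  haveI := CurveRR.isNoetherian_of_proper k X
  constructor
  · intro hn
    obtain ⟨C, hC, hxC⟩ := exists_mem_irreducibleComponents_subset_of_isIrreducible _ (isIrreducible_singleton (x := x))
    refine ⟨C, hC, hxC rfl, by_contra fun h => ?_⟩
    haveI := isRegularLocalRing_of_single k C (hrat C hC) (hxC rfl) h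
    exact not_isRegularLocalRing_of_isNode k hdim.le hn
  · rintro ⟨C, hC, hx⟩
    haveI : JacobsonSpace X := LocallyOfFiniteType.jacobsonSpace (X ↘ Spec (CommRingCat.of k))
    have hcl := Intersect.isClosed_singleton_of_finite
      ((isClosed_of_mem_irreducibleComponents C hC).inter isClosed_closure) (meet_finite k hdim.le C hC) hx
    refine (hX x hcl).resolve_left ?_
    rintro ⟨U, hxU, hU⟩
    haveI := hU
    haveI := SmLocalST.isRegularLocalRing_stalk_of_smooth_field (U.ι ≫ (X ↘ Spec (CommRingCat.of k))) ⟨x, hxU⟩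
    haveI := RegLoc.isDomain (A := U.toScheme.presheaf.stalk ⟨x, hxU⟩)
    haveI : IsDomain (X.presheaf.stalk x) :=
      (asIso (U.ι.stalkMap ⟨x, hxU⟩)).commRingCatIsoToRingEquiv.toMulEquiv.isDomain _
    obtain ⟨hxC, C', hC', hne, hxC'⟩ := (inter_closure_compl hC x).1 hx
    exact hne (component_eq_of_isDomain hC' hC hxC' hxC)

open Classical in
/-- `2 · #meeting points` is the sum over components -/
theorem sum_ncard_meet (hdim : topologicalKrullDim X = 1) (hX : Curv2.AtWorstNodal k X)
    [Fintype (irreducibleComponents (X : Type u))] :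
    ∑ Z : irreducibleComponents (X : Type u), (Z.1 ∩ closure Z.1ᶜ).ncard =
      2 * {x : X | ∃ C ∈ irreducibleComponents (X : Type u), x ∈ C ∩ closure Cᶜ}.ncard ∧
    {x : X | ∃ C ∈ irreducibleComponents (X : Type u), x ∈ C ∩ closure Cᶜ}.Finite := by
  haveI := CurveRR.isNoetherian_of_proper k X
  haveI : JacobsonSpace X := LocallyOfFiniteType.jacobsonSpace (X ↘ Spec (CommRingCat.of k))
  set M := {x : X | ∃ C ∈ irreducibleComponents (X : Type u), x ∈ C ∩ closure Cᶜ} with hM
  have hfin : M.Finite := by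
    refine ((NoetherianSpace.finite_irreducibleComponents (α := X)).biUnion
      fun C hC => meet_finite k hdim.le C hC).subset fun x hx => ?_
    obtain ⟨C, hC, hx⟩ := hx
    exact Set.mem_iUnion₂.2 ⟨C, hC, hx⟩
  refine ⟨?_, hfin⟩
  have h1 : ∀ Z : irreducibleComponents (X : Type u),
      (Z.1 ∩ closure Z.1ᶜ).ncard = (hfin.toFinset.filter fun x => x ∈ Z.1).card := fun Z => by
    rw [Set.ncard_eq_toFinset_card _ (meet_finite k hdim.le Z.1 Z.2)]
    congr 1
    ext x
    simp only [Set.Finite.mem_toFinset, Finset.mem_filter]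
    refine ⟨fun hx => ⟨⟨Z.1, Z.2, hx⟩, hx.1⟩, fun ⟨⟨C, hC, hx⟩, hxZ⟩ => ⟨hxZ, ?_⟩⟩
    obtain ⟨hxC, C', hC', hne, hxC'⟩ := (inter_closure_compl hC x).1 hx
    by_cases hCZ : C = Z.1
    · exact hCZ ▸ hx.2
    · exact ((inter_closure_compl Z.2 x).2 ⟨hxZ, C, hC, hCZ, hxC⟩).2
  simp only [h1, Finset.card_filter]
  rw [Finset.sum_comm, Set.ncard_eq_toFinset_card _ hfin, mul_comm, ← smul_eq_mul, ← Finset.sum_const]
  refine Finset.sum_congr rfl fun x hx => ?_
  rw [← Finset.card_filter]
  obtain ⟨C, hC, hxm⟩ := hfin.mem_toFinset.1 hx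
  obtain ⟨hxC, C', hC', hne, hxC'⟩ := (inter_closure_compl hC x).1 hxm
  have hcl := Intersect.isClosed_singleton_of_finite
    ((isClosed_of_mem_irreducibleComponents C hC).inter isClosed_closure) (meet_finite k hdim.le C hC) hxm
  rw [Finset.card_eq_two]
  refine ⟨⟨C, hC⟩, ⟨C', hC'⟩, fun h => hne (congrArg Subtype.val h).symm, Finset.ext fun Z => ?_⟩
  simp only [Finset.mem_filter, Finset.mem_univ, true_and, Finset.mem_insert, Finset.mem_singleton]
  refine ⟨fun hxZ => by_contra fun h => ?_, by rintro (rfl | rfl) <;> assumption⟩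
  push_neg at h
  refine not_three_components k hX hcl ![C, C', Z.1] (fun i => by fin_cases i <;> first | exact hC | exact hC' | exact Z.2)
    ?_ (fun i => by fin_cases i <;> assumption)
  intro i j hij
  fin_cases i <;> fin_cases j <;> simp_all [Subtype.ext_iff]

/-- `2g - 2 = Σ_C (2 g_C - 2 + k_C)` -/
theorem genus_formula (hdim : topologicalKrullDim X = 1) (hX : Curv2.AtWorstNodal k X)
    [Fintype (irreducibleComponents (X : Type u))] :
    2 * (Curv2.genus k X : ℤ) - 2 = ∑ Z : irreducibleComponents (X : Type u),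
      (2 * (Sub.genJ k (Sub.cI Z.1 Z.2) : ℤ) - 2 + ((Z.1 ∩ closure Z.1ᶜ).ncard : ℤ)) := by
  haveI := CurveRR.isNoetherian_of_proper k X
  haveI : QuasiCompact (X ↘ Spec (CommRingCat.of k)) := quasiCompact_of_compactSpace (X ↘ Spec (CommRingCat.of k))
  haveI : QuasiSeparated (X ↘ Spec (CommRingCat.of k)) := inferInstance
  haveI := DerPush.hasRpush_sch (X ↘ Spec (CommRingCat.of k))
  have h : DCoh.RpushPreservesQCoh (X ↘ Spec (CommRingCat.of k)) := fun E hE =>
    DQPush.isQCohD_rpush (X ↘ Spec (CommRingCat.of k)) hE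
  haveI : DCoh.HasShriek (X ↘ Spec (CommRingCat.of k)) h := DCohShriek.isLeftAdjoint_rpushQ (X ↘ Spec (CommRingCat.of k)) h
  let OY := (DCohShriek.tildeQ k).obj (DCohShriek.unitD k)
  have hOY : Nonempty (OY.obj ≅ DCoh.inD (Spec (CommRingCat.of k)) (Coh.structureModule (Spec (CommRingCat.of k)))) :=
    ⟨DCohShriek.tildeUnitIso k⟩
  have hω := Marked.invertible_omega k h OY hOY hdim hX
  obtain ⟨tr, ht⟩ := Sub.exists_trace k h OY hOY hdim.le
  have he := euler_dualizing k hdim.le hω ht
  have hE := CurveRR.isFinLocFreeOfRank_one hω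
  have hsum := CurveRR.Multi.deg_eq_finsum k hdim.le 1 _ hE
  rw [finsum_eq_sum_of_fintype] at hsum
  have hdeg : Curv2.deg k X (DCoh.dualizingMod (X ↘ Spec (CommRingCat.of k)) h OY 1) 1 = 2 * (Curv2.genus k X : ℤ) - 2 := by
    have h0 : CurveRR.h k (Coh.structureModule X) 0 = 1 := h0_structure_connected (k := k)
    rw [Curv2.deg, he, CurveRR.euler_eq hdim.le, h0]
    show -((1 : ℕ) - (Curv2.genus k X : ℤ)) - ((1 : ℕ) : ℤ) * ((1 : ℕ) - (Curv2.genus k X : ℤ)) = _
    push_cast
    ring
  rw [← hdeg, hsum]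
  refine Finset.sum_congr rfl fun Z _ => ?_
  have hd := dim_component_eq_one k hdim Z.1 Z.2
  rw [if_pos hd]
  have hlen : Module.length (X.presheaf.stalk Z.2.1.genericPoint) (X.presheaf.stalk Z.2.1.genericPoint) = 1 := by
    haveI := RatFunLib.isArtinianRing_stalk (CurveRR.Multi.eq_of_specializes Z)
    have hf : IsField (X.presheaf.stalk Z.2.1.genericPoint) := IsArtinianRing.isField_of_isReduced_of_isLocalRing _
    letI := hf.toField
    rw [Module.length_eq_one]
  have hrad : (X.irreducibleComponentIdeal Z.1 Z.2).radical = Sub.cI Z.1 Z.2 := by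
    rw [← Scheme.IdealSheafData.vanishingIdeal_support]
    exact congrArg _ (Closeds.ext rfl)
  rw [hlen, hrad]
  have hdI := Sub.dim_cI k Z.1 Z.2 hdim
  have := Sub.degJ_omega k h OY hOY hω hdim (Sub.cI Z.1 Z.2) hdI
  rw [Marked.kJ_eq_ncard k h OY hOY hdim hX (Sub.cI Z.1 Z.2) hdI, Scheme.IdealSheafData.coe_support_vanishingIdeal] at this
  show (((1 : ℕ∞)).toNat : ℤ) * Sub.degJ k _ _ = _
  rw [this]
  simp

end Groth.Agent.NodeBr
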