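import Groth.Agent.NodeBr.Ring
import Groth.Agent.NodalRed.Basic
import Mathlib

/-!
Two complementary closed subcurves of a nodal curve meet in a reduced scheme.
-/

set_option autoImplicit false
set_option backward.isDefEq.respectTransparency false
set_option backward.isDefEq.respectTransparency.types false
set_option linter.style.haveILetI false
set_option maxHeartbeats 1000000

universe u

open CategoryTheory CategoryTheory.Limits AlgebraicGeometry TopologicalSpace Opposite IsLocalRing

noncomputable section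

namespace Groth.Agent.NodeBr

attribute [local instance] Curv2.stalkAlgebra

variable (k : Type u) [Field k] [IsAlgClosed k] {X : Scheme.{u}} [X.Over (Spec (CommRingCat.of k))]

/-- over an algebraically closed field a node is an ordinary double point of `X` itself -/
theorem exists_model_of_isNode [LocallyOfFiniteType (X ↘ Spec (CommRingCat.of k))] {x : X}
    (h : Curv2.IsNode k X x) :
    ∃ (B : Type u) (_ : CommRing B) (_ : IsLocalRing B) (_ : IsNoetherianRing B)
      (_ : (X.presheaf.stalk x) ≃+* B),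
      Nonempty (AdicCompletion (maximalIdeal B) B ≃+* N (AlgebraicClosure k)) := by
  obtain ⟨-, xb, rfl, e, -⟩ := h
  haveI : IsLocallyNoetherian (Curv2.bc k X (AlgebraicClosure k)) :=
    LocallyOfFiniteType.isLocallyNoetherian (Curv2.bcSnd k X (AlgebraicClosure k))
  haveI : IsIso (CommRingCat.ofHom (algebraMap k (AlgebraicClosure k))) :=
    (ConcreteCategory.isIso_iff_bijective _).2 IsAlgClosed.algebraMap_bijective_of_isIntegral
  haveI : IsIso (Curv2.bcFst k X (AlgebraicClosure k)) :=
    inferInstanceAs (IsIso (pullback.fst (X ↘ Spec (CommRingCat.of k))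
      (Spec.map (CommRingCat.ofHom (algebraMap k (AlgebraicClosure k))))))
  exact ⟨_, inferInstance, inferInstance, inferInstance,
    (asIso ((Curv2.bcFst k X (AlgebraicClosure k)).stalkMap xb)).commRingCatIsoToRingEquiv, ⟨e⟩⟩

omit k [Field k] [IsAlgClosed k] [X.Over (Spec (CommRingCat.of k))] in
/-- If `Ann a ⊆ b`, a point of `V(b)` sees a non-zero `a`. -/
theorem map_ne_bot {R A : Type u} [CommRing R] [IsNoetherianRing R] [CommRing A] [Algebra R A] (q : Ideal R)
    [q.IsPrime] [IsLocalization.AtPrime A q] (a b : Ideal R) (hb : ∀ z, (∀ y ∈ a, z * y = 0) → z ∈ b)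
    (hbq : b ≤ q) : a.map (algebraMap R A) ≠ ⊥ := by
  classical
  intro h0
  obtain ⟨n, f, hf⟩ := Submodule.fg_iff_exists_fin_generating_family.1 (IsNoetherian.noetherian a)
  have hu : ∀ i, ∃ u : q.primeCompl, (u : R) * f i = 0 := fun i => by
    have h1 : algebraMap R A (f i) = 0 := by
      rw [← Ideal.mem_bot, ← h0]
      exact Ideal.mem_map_of_mem _ (hf ▸ Submodule.subset_span ⟨i, rfl⟩)
    exact (IsLocalization.map_eq_zero_iff q.primeCompl A _).1 h1
  choose u hu using hu
  have hmem : ((∏ i, u i : q.primeCompl) : R) ∈ b := hb _ fun y hy => by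
    rw [← hf] at hy
    induction hy using Submodule.span_induction with
    | mem y hy =>
      obtain ⟨i, rfl⟩ := hy
      rw [← Finset.mul_prod_erase Finset.univ u (Finset.mem_univ i), Submonoid.coe_mul, mul_right_comm, hu i, zero_mul]
    | zero => simp
    | add x y _ _ hx hy => rw [mul_add, hx, hy, add_zero]
    | smul r x _ hx => rw [smul_eq_mul, mul_left_comm, hx, mul_zero]
  exact (∏ i, u i : q.primeCompl).2 (hbq hmem)

/-- complementary closed parts of a nodal curve meet in a reduced scheme -/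
theorem sup_vanishingIdeal_eq [AlgebraicGeometry.IsReduced X]
    [LocallyOfFiniteType (X ↘ Spec (CommRingCat.of k))] (hX : Curv2.AtWorstNodal k X)
    (S T : Closeds X) (hST : (S : Set X) ∪ T = Set.univ) (hS : (S : Set X) ⊆ closure (S \ T))
    (hT : (T : Set X) ⊆ closure (T \ S)) (hcl : ∀ P ∈ (S : Set X) ∩ T, IsClosed ({P} : Set X)) :
    Scheme.IdealSheafData.vanishingIdeal S ⊔ Scheme.IdealSheafData.vanishingIdeal T =
      Scheme.IdealSheafData.vanishingIdeal ⟨(S : Set X) ∩ T, S.isClosed.inter T.isClosed⟩ := by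
  haveI : IsLocallyNoetherian X := LocallyOfFiniteType.isLocallyNoetherian (X ↘ Spec (CommRingCat.of k))
  refine Scheme.IdealSheafData.ext (funext fun U => ?_)
  rw [Scheme.IdealSheafData.ideal_sup, Pi.sup_apply, Scheme.IdealSheafData.vanishingIdeal_ideal,
    Scheme.IdealSheafData.vanishingIdeal_ideal, Scheme.IdealSheafData.vanishingIdeal_ideal]
  set f := U.2.fromSpec with hf
  haveI : IsNoetherianRing Γ(X, U.1) := IsLocallyNoetherian.component_noetherian U
  let R := Γ(X, U.1)
  haveI : _root_.IsReduced R := inferInstance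
  let a : Ideal R := PrimeSpectrum.vanishingIdeal (f ⁻¹' S)
  let b : Ideal R := PrimeSpectrum.vanishingIdeal (f ⁻¹' T)
  have hS0 : PrimeSpectrum.zeroLocus (a : Set R) = f ⁻¹' S := by
    rw [PrimeSpectrum.zeroLocus_vanishingIdeal_eq_closure, (S.isClosed.preimage f.continuous).closure_eq]
  have hT0 : PrimeSpectrum.zeroLocus (b : Set R) = f ⁻¹' T := by
    rw [PrimeSpectrum.zeroLocus_vanishingIdeal_eq_closure, (T.isClosed.preimage f.continuous).closure_eq]
  have hann : ∀ (S T : Closeds X) (a b : Ideal R), a = PrimeSpectrum.vanishingIdeal (f ⁻¹' S) →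
      PrimeSpectrum.zeroLocus (b : Set R) = f ⁻¹' T → (S : Set X) ⊆ closure (S \ T) →
      ∀ z, (∀ y ∈ b, z * y = 0) → z ∈ a := by
    rintro S T a b rfl hb hd z hz
    have he : f ⁻¹' (S : Set X) ⊆ closure (f ⁻¹' ((S : Set X) \ T)) := by
      rw [← f.isOpenEmbedding.isOpenMap.preimage_closure_eq_closure_preimage f.continuous]
      exact Set.preimage_mono hd
    refine PrimeSpectrum.vanishingIdeal_anti_mono he ?_
    rw [PrimeSpectrum.vanishingIdeal_closure, PrimeSpectrum.mem_vanishingIdeal]
    rintro q ⟨-, hqT⟩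
    obtain ⟨y, hy, hyq⟩ : ∃ y ∈ b, y ∉ q.asIdeal := by
      by_contra! hc
      exact hqT (hb.le (show q ∈ PrimeSpectrum.zeroLocus (b : Set R) from hc))
    exact (q.isPrime.mem_or_mem (show z * y ∈ q.asIdeal by rw [hz y hy]; exact zero_mem _)).resolve_right hyq
  have ha : ∀ z, (∀ y ∈ b, z * y = 0) → z ∈ a := hann S T a b rfl hT0 hS
  have hb : ∀ z, (∀ y ∈ a, z * y = 0) → z ∈ b := hann T S b a rfl hS0 hT
  have hab : ∀ x ∈ a, ∀ y ∈ b, x * y = 0 := fun x hx y hy => by
    refine IsNilpotent.eq_zero (nilpotent_iff_mem_prime.2 fun J hJ => ?_)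
    have hq : (⟨J, hJ⟩ : PrimeSpectrum R) ∈ f ⁻¹' ((S : Set X) ∪ T) := by rw [hST]; trivial
    rcases hq with hq | hq
    · exact J.mul_mem_right _ ((PrimeSpectrum.mem_vanishingIdeal _ _).1 hx _ hq)
    · exact J.mul_mem_left _ ((PrimeSpectrum.mem_vanishingIdeal _ _).1 hy _ hq)
  show a ⊔ b = PrimeSpectrum.vanishingIdeal (f ⁻¹' ((S : Set X) ∩ T))
  rw [Set.preimage_inter, ← hS0, ← hT0, ← PrimeSpectrum.zeroLocus_sup,
    PrimeSpectrum.vanishingIdeal_zeroLocus_eq_radical]
  refine le_antisymm Ideal.le_radical fun x hx => Ideal.mem_of_localization_maximal fun q hq => ?_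
  by_cases hle : a ⊔ b ≤ q
  swap
  · obtain ⟨y, hy, hyq⟩ := SetLike.not_le_iff_exists.1 hle
    rw [Ideal.eq_top_of_isUnit_mem _ (Ideal.mem_map_of_mem _ hy)
      (IsLocalization.map_units (Localization.AtPrime q) (⟨y, hyq⟩ : q.primeCompl))]
    trivial
  let y : PrimeSpectrum R := ⟨q, hq.isPrime⟩
  have hys : f y ∈ (S : Set X) ∩ T := ⟨hS0.le (show y ∈ PrimeSpectrum.zeroLocus (a : Set R) from le_sup_left.trans hle),
    hT0.le (show y ∈ PrimeSpectrum.zeroLocus (b : Set R) from le_sup_right.trans hle)⟩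
  have hyU : f y ∈ U.1 := U.2.range_fromSpec.le ⟨y, rfl⟩
  let A := X.presheaf.stalk (f y)
  letI : Algebra R A := TopCat.Presheaf.algebra_section_stalk X.presheaf ⟨f y, hyU⟩
  haveI : IsLocalization.AtPrime A q := U.2.isLocalization_stalk' y hyU
  have hxq : x ∈ q := hq.isPrime.radical_le_iff.2 hle hx
  have key : algebraMap R A x ∈ (a ⊔ b).map (algebraMap R A) := by
    have hA0 := map_ne_bot (A := A) q a b hb (le_sup_right.trans hle)
    have hB0 := map_ne_bot (A := A) q b a ha (le_sup_left.trans hle)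
    rcases hX (f y) (hcl _ hys) with ⟨V, hV, hVs⟩ | hn
    · exfalso
      haveI := hVs
      haveI := SmLocalST.isRegularLocalRing_stalk_of_smooth_field (V.ι ≫ (X ↘ Spec (CommRingCat.of k))) ⟨f y, hV⟩
      haveI := RegLoc.isDomain (A := V.toScheme.presheaf.stalk ⟨f y, hV⟩)
      haveI : IsDomain A :=
        (asIso (V.ι.stalkMap ⟨f y, hV⟩)).commRingCatIsoToRingEquiv.toMulEquiv.isDomain _
      have h0 : a.map (algebraMap R A) * b.map (algebraMap R A) = ⊥ := by
        rw [← Ideal.map_mul, le_bot_iff.1 (Ideal.mul_le.2 fun x hx y hy => hab x hx y hy), Ideal.map_bot]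
      rcases Ideal.mul_eq_bot.1 h0 with h | h
      · exact hA0 h
      · exact hB0 h
    · obtain ⟨B, _, _, _, σ, ⟨e⟩⟩ := exists_model_of_isNode k hn
      let C := AdicCompletion (maximalIdeal B) B
      haveI : Module.Flat B C := AdicCompletion.flat_of_isNoetherian _
      haveI : Module.FaithfullyFlat B C := Module.FaithfullyFlat.of_flat_of_isLocalHom
      let g : R →+* B := σ.toRingHom.comp (algebraMap R A)
      letI : Algebra R C := ((algebraMap B C).comp g).toAlgebra
      have hmap : ∀ I : Ideal R, I.map (algebraMap R C) =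
          ((I.map (algebraMap R A)).map σ.toRingHom).map (algebraMap B C) := fun I => by
        rw [Ideal.map_map, Ideal.map_map]; rfl
      haveI : Module.Flat R C := by
        haveI : Module.Flat R A := IsLocalization.flat A q.primeCompl
        exact RingHom.Flat.comp (RingHom.Flat.comp (RingHom.flat_algebraMap_iff.2 ‹Module.Flat R A›)
          (RingHom.Flat.of_bijective σ.bijective)) (RingHom.flat_algebraMap_iff.2 ‹Module.Flat B C›)
      have hne : ∀ I : Ideal R, I.map (algebraMap R A) ≠ ⊥ → I.map (algebraMap R C) ≠ ⊥ := fun I hI h => by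
        rw [hmap, Ideal.map_eq_bot_iff_of_injective (FaithfulSMul.algebraMap_injective B C),
          Ideal.map_eq_bot_iff_of_injective (f := σ.toRingHom) σ.injective] at h
        exact hI h
      have hp : ∀ r ∈ q, ¬ IsUnit (algebraMap R C r) := fun r hr hu => by
        have h1 : IsUnit (g r) := isUnit_of_map_unit (algebraMap B C) _ hu
        exact (IsLocalization.AtPrime.isUnit_to_map_iff A q r).1
          ((isUnit_map_iff σ _).1 h1) hr
      have h2 := map_le_of_node (K := AlgebraicClosure k) e q hp a b hab ha hb (hne _ hA0) (hne _ hB0)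
      rw [hmap, hmap] at h2
      have h3 := Ideal.comap_mono (f := algebraMap B C) h2
      rw [Ideal.comap_map_eq_self_of_faithfullyFlat, Ideal.comap_map_eq_self_of_faithfullyFlat] at h3
      have h4 := h3 (Ideal.mem_map_of_mem _ (Ideal.mem_map_of_mem _ hxq))
      obtain ⟨z, hz, e'⟩ := (Ideal.mem_map_iff_of_surjective σ.toRingHom σ.surjective).1 h4
      rw [← σ.injective e']
      exact hz
  obtain ⟨u, hu, hux⟩ := (IsLocalization.algebraMap_mem_map_algebraMap_iff q.primeCompl A _ _).1 key
  exact (IsLocalization.algebraMap_mem_map_algebraMap_iff q.primeCompl (Localization.AtPrime q) _ _).2 ⟨u, hu, hux⟩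

end Groth.Agent.NodeBr
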