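import Groth.Agent.ArtPow.Basic
import Groth.Agent.Goren.Flat

/-!
The two branches at an ordinary double point.
-/

set_option autoImplicit false
set_option linter.style.haveILetI false

universe u

open MvPowerSeries IsLocalRing

namespace Groth.Agent.NodeBr

variable {K : Type u} [Field K]

/-- `x` and `y` are prime in `K[[x, y]]` -/
theorem X_dvd_or_dvd (s : Fin 2) (f g : MvPowerSeries (Fin 2) K)
    (h : (X s : MvPowerSeries (Fin 2) K) ∣ f * g) : (X s : MvPowerSeries (Fin 2) K) ∣ f ∨ (X s : MvPowerSeries (Fin 2) K) ∣ g := by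
  classical
  by_contra! hc
  obtain ⟨hf, hg⟩ := hc
  rw [X_dvd_iff] at hf hg h
  push_neg at hf hg
  obtain ⟨t, hst⟩ : ∃ t : Fin 2, t ≠ s := exists_ne s
  have hcase : ∀ i : Fin 2, i = s ∨ i = t := fun i => by omega
  have hf' : ∃ n, ∃ m : Fin 2 →₀ ℕ, m s = 0 ∧ m t = n ∧ coeff m f ≠ 0 := by
    obtain ⟨m, h1, h2⟩ := hf; exact ⟨_, m, h1, rfl, h2⟩
  have hg' : ∃ n, ∃ m : Fin 2 →₀ ℕ, m s = 0 ∧ m t = n ∧ coeff m g ≠ 0 := by
    obtain ⟨m, h1, h2⟩ := hg; exact ⟨_, m, h1, rfl, h2⟩
  obtain ⟨a, ha1, ha2, ha3⟩ := Nat.find_spec hf'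
  obtain ⟨b, hb1, hb2, hb3⟩ := Nat.find_spec hg'
  have h0 := h (a + b) (by rw [Finsupp.add_apply, ha1, hb1])
  rw [coeff_mul, Finset.sum_eq_single (a, b)] at h0
  · exact (mul_ne_zero ha3 hb3) h0
  · intro p hp hne
    simp only [Finset.HasAntidiagonal.mem_antidiagonal] at hp
    have h1 : p.1 s = 0 ∧ p.2 s = 0 := by
      have := DFunLike.congr_fun hp s
      simp only [Finsupp.add_apply] at this
      omega
    have h2 : p.1 t + p.2 t = a t + b t := by
      have := DFunLike.congr_fun hp t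
      simpa [Finsupp.add_apply] using this
    rcases lt_trichotomy (p.1 t) (a t) with hlt | heq | hgt
    · have := Nat.find_min hf' (m := p.1 t) (by omega)
      push_neg at this
      rw [this p.1 h1.1 rfl, zero_mul]
    · exfalso
      refine hne (Prod.ext (Finsupp.ext fun i => ?_) (Finsupp.ext fun i => ?_))
      · rcases hcase i with rfl | rfl
        · rw [h1.1, ha1]
        · exact heq
      · rcases hcase i with rfl | rfl
        · rw [h1.2, hb1]
        · dsimp only; omega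
    · have := Nat.find_min hg' (m := p.2 t) (by omega)
      push_neg at this
      rw [this p.2 h1.2 rfl, mul_zero]
  · intro hmem
    exact absurd (show (a, b) ∈ Finset.HasAntidiagonal.antidiagonal (a + b) by simp) hmem

variable (K) in
/-- the ring of a node -/
abbrev N : Type u := MvPowerSeries (Fin 2) K ⧸ Ideal.span {(X 0 * X 1 : MvPowerSeries (Fin 2) K)}

/-- mutually annihilating nonzero ideals of a node ring together generate the maximal ideal -/
theorem span_le_sup_of_annihilators (I J : Ideal (N K)) (hI : I ≠ ⊥) (hJ : J ≠ ⊥)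
    (hIJ : ∀ f ∈ I, ∀ g ∈ J, f * g = 0) (hI' : ∀ z, (∀ g ∈ J, z * g = 0) → z ∈ I)
    (hJ' : ∀ z, (∀ f ∈ I, z * f = 0) → z ∈ J) :
    Ideal.map (Ideal.Quotient.mk _) (Ideal.span (Set.range (X : Fin 2 → MvPowerSeries (Fin 2) K))) ≤ I ⊔ J := by
  let π := Ideal.Quotient.mk (Ideal.span {(X 0 * X 1 : MvPowerSeries (Fin 2) K)})
  have hπ : ∀ f, π f = 0 ↔ (X 0 * X 1 : MvPowerSeries (Fin 2) K) ∣ f := fun f => by
    rw [Ideal.Quotient.eq_zero_iff_mem, Ideal.mem_span_singleton]
  have hzero : ∀ (s t : Fin 2), s ≠ t → π (X s * X t) = 0 := fun s t hst => by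
    rw [hπ]
    fin_cases s <;> fin_cases t <;> simp_all [mul_comm]
  have hboth : ∀ (s t : Fin 2), s ≠ t → ∀ F, (X s : MvPowerSeries (Fin 2) K) ∣ F → (X t : MvPowerSeries (Fin 2) K) ∣ F → π F = 0 := by
    rintro s t hst _ ⟨G, rfl⟩ h
    rcases X_dvd_or_dvd t _ _ h with h' | ⟨H, rfl⟩
    · rw [X_dvd_iff] at h'
      have := h' (Finsupp.single s 1) (by simp [Finsupp.single_apply, hst])
      rw [coeff_index_single_self_X] at this
      exact absurd this one_ne_zero
    · rw [← mul_assoc, map_mul, hzero s t hst, zero_mul]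
  -- if an element of `I` avoids the `s`-axis, then `J ⊆ (X s)` and `X t ∈ I`
  have key : ∀ (I J : Ideal (N K)), (∀ f ∈ I, ∀ g ∈ J, f * g = 0) → (∀ z, (∀ g ∈ J, z * g = 0) → z ∈ I) →
      ∀ (s t : Fin 2), s ≠ t → ∀ F, π F ∈ I → ¬ (X s : MvPowerSeries (Fin 2) K) ∣ F →
      (∀ G, π G ∈ J → (X s : MvPowerSeries (Fin 2) K) ∣ G) ∧ π (X t) ∈ I := by
    intro I J hIJ hI' s t hst F hF hnd
    have h1 : ∀ G, π G ∈ J → (X s : MvPowerSeries (Fin 2) K) ∣ G := fun G hG => by
      have h0 := hIJ _ hF _ hG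
      rw [← map_mul, hπ] at h0
      have : (X s : MvPowerSeries (Fin 2) K) ∣ F * G := by
        refine dvd_trans ?_ h0
        fin_cases s <;> simp
      exact (X_dvd_or_dvd s F G this).resolve_left hnd
    refine ⟨h1, hI' _ fun g hg => ?_⟩
    obtain ⟨G, rfl⟩ := Ideal.Quotient.mk_surjective g
    obtain ⟨H, rfl⟩ := h1 G hg
    rw [← map_mul, ← mul_assoc, map_mul, hzero t s hst.symm, zero_mul]
  obtain ⟨f, hf, hf0⟩ := Submodule.exists_mem_ne_zero_of_ne_bot hI
  obtain ⟨F, rfl⟩ := Ideal.Quotient.mk_surjective f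
  obtain ⟨g, hg, hg0⟩ := Submodule.exists_mem_ne_zero_of_ne_bot hJ
  obtain ⟨G, rfl⟩ := Ideal.Quotient.mk_surjective g
  obtain ⟨s, t, hst, hnd⟩ : ∃ s t : Fin 2, s ≠ t ∧ ¬ (X s : MvPowerSeries (Fin 2) K) ∣ F := by
    by_contra! hc
    exact hf0 (hboth 0 1 (by decide) F (hc 0 1 (by decide)) (hc 1 0 (by decide)))
  obtain ⟨hs, htI⟩ := key I J hIJ hI' s t hst F hf hnd
  obtain ⟨-, hsJ⟩ := key J I (fun a ha b hb => by rw [mul_comm]; exact hIJ b hb a ha) hJ' t s hst.symm G hg
    (fun h => hg0 (hboth s t hst G (hs G hg) h))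
  rw [Ideal.map_span, Ideal.span_le]
  rintro _ ⟨_, ⟨i, rfl⟩, rfl⟩
  rcases (by omega : i = s ∨ i = t) with rfl | rfl
  · exact Submodule.mem_sup_right hsJ
  · exact Submodule.mem_sup_left htI

/-- At an ordinary double point, complementary branch ideals generate the maximal ideal. -/
theorem map_le_of_node {R C : Type u} [CommRing R] [IsNoetherianRing R] [CommRing C] [Algebra R C]
    [Module.Flat R C] (e : C ≃+* N K) (p : Ideal R)
    (hp : ∀ r ∈ p, ¬ IsUnit (algebraMap R C r)) (a b : Ideal R)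
    (hab : ∀ x ∈ a, ∀ y ∈ b, x * y = 0) (ha : ∀ z, (∀ y ∈ b, z * y = 0) → z ∈ a)
    (hb : ∀ z, (∀ y ∈ a, z * y = 0) → z ∈ b)
    (ha0 : a.map (algebraMap R C) ≠ ⊥) (hb0 : b.map (algebraMap R C) ≠ ⊥) :
    p.map (algebraMap R C) ≤ (a ⊔ b).map (algebraMap R C) := by
  -- annihilators extend
  have hext : ∀ (a b : Ideal R), (∀ z, (∀ y ∈ b, z * y = 0) → z ∈ a) →
      ∀ w : C, (∀ v ∈ b.map (algebraMap R C), w * v = 0) → w ∈ a.map (algebraMap R C) := by
    intro a b ha w hw
    obtain ⟨n, f, hf⟩ := Submodule.fg_iff_exists_fin_generating_family.1 (IsNoetherian.noetherian b)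
    refine Ideal.map_mono ?_ (Groth.Agent.Goren.mem_map_ann (R := R) f (b := w) fun i => ?_)
    · intro z hz
      rw [LinearMap.mem_ker] at hz
      refine ha z fun y hy => ?_
      rw [← hf] at hy
      induction hy using Submodule.span_induction with
      | mem y hy =>
        obtain ⟨i, rfl⟩ := hy
        rw [mul_comm]
        exact congrFun hz i
      | zero => simp
      | add x y _ _ hx hy => rw [mul_add, hx, hy, add_zero]
      | smul r x _ hx => rw [smul_eq_mul, mul_left_comm, hx, mul_zero]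
    · rw [mul_comm]
      exact hw _ (Ideal.mem_map_of_mem _ (hf ▸ Submodule.subset_span ⟨i, rfl⟩))
  have hab' : ∀ x ∈ a.map (algebraMap R C), ∀ y ∈ b.map (algebraMap R C), x * y = 0 := by
    have h0 : a * b = ⊥ := le_bot_iff.1 (Ideal.mul_le.2 fun x hx y hy => hab x hx y hy)
    intro x hx y hy
    have := Ideal.mul_mem_mul hx hy
    rwa [← Ideal.map_mul, h0, Ideal.map_bot] at this
  let E := e.toRingHom
  have hmem : ∀ (I : Ideal C) (z : N K), z ∈ I.map E ↔ e.symm z ∈ I := fun I z => by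
    rw [show I.map E = I.comap e.symm.toRingHom from Ideal.map_comap_of_equiv e]
    rfl
  have hne : ∀ I : Ideal C, I ≠ ⊥ → I.map E ≠ ⊥ := fun I hI h =>
    hI ((Ideal.map_eq_bot_iff_of_injective e.injective).1 h)
  have key := span_le_sup_of_annihilators _ _ (hne _ ha0) (hne _ hb0)
    (fun f hf g hg => e.symm.injective (by
      rw [map_mul, map_zero]; exact hab' _ ((hmem _ _).1 hf) _ ((hmem _ _).1 hg)))
    (fun z hz => (hmem _ _).2 (hext a b ha _ fun v hv => e.injective (by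
      rw [map_mul, map_zero, RingEquiv.apply_symm_apply]
      exact hz _ (Ideal.mem_map_of_mem E hv))))
    (fun z hz => (hmem _ _).2 (hext b a hb _ fun v hv => e.injective (by
      rw [map_mul, map_zero, RingEquiv.apply_symm_apply]
      exact hz _ (Ideal.mem_map_of_mem E hv))))
  rw [← Ideal.map_sup] at key
  rw [Ideal.map_le_iff_le_comap]
  intro r hr
  rw [Ideal.mem_comap, Ideal.map_sup, ← e.symm_apply_apply (algebraMap R C r), ← hmem]
  refine key ?_
  obtain ⟨F, hF⟩ := Ideal.Quotient.mk_surjective (I := Ideal.span {(X 0 * X 1 : MvPowerSeries (Fin 2) K)})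
    (e (algebraMap R C r))
  rw [← hF]
  refine Ideal.mem_map_of_mem _ ?_
  rw [ArtPow.span_X_eq_maximalIdeal, mem_maximalIdeal, mem_nonunits_iff]
  intro hu
  have := (hu.map (Ideal.Quotient.mk _)).map e.symm
  rw [hF, e.symm_apply_apply] at this
  exact hp r hr this

end Groth.Agent.NodeBr
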